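import Cfsg.Agent.Lib.Jordan.Matrix
import Cfsg.Agent.Lib.UnitaryUnipotent

/-! Every Jordan type occurs in the unitary group. -/

set_option autoImplicit false
set_option linter.unusedSectionVars false

namespace Cfsg.Agent.Lib.Jordan

open Matrix UnitaryConj

variable {K : Type*} [Field K] [Fintype K] {q : ℕ}

theorem jordanBlock_sub_one (k : ℕ) :
    Cfsg.jordanBlock k K - 1 = (GLOrders.shiftMat k k : Matrix (Fin k) (Fin k) K)ᵀ := by
  ext i j
  simp only [Cfsg.jordanBlock, GLOrders.shiftMat, Matrix.sub_apply, Matrix.of_apply, Matrix.transpose_apply,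
    Matrix.one_apply, Fin.ext_iff]
  have := i.2
  split_ifs <;> first | omega | simp

theorem exists_gu (hK : Fintype.card K = q ^ 2) {n : ℕ} (μ : Nat.Partition n) :
    ∃ u : GL (Fin n) K, u ∈ Cfsg.GU n K q ∧ MType ((u : Matrix (Fin n) (Fin n) K) - 1) μ.parts := by
  classical
  let t := μ.parts.toList.length
  let d : Fin t → ℕ := fun k => μ.parts.toList[k]
  have hμ : Finset.univ.val.map d = μ.parts := by
    rw [Fin.univ_val_map]
    simp only [d, t, Fin.getElem_fin, List.ofFn_getElem, Multiset.coe_toList]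
  have hd : ∀ k, 1 ≤ d k := fun k => μ.parts_pos (Multiset.mem_toList.mp (List.getElem_mem _))
  have hc : Fintype.card ((k : Fin t) × Fin (d k)) = n := by
    rw [Fintype.card_sigma]
    simp only [Fintype.card_fin]
    conv_rhs => rw [← μ.parts_sum, ← hμ]
    rfl
  let e := Fintype.equivFinOfCardEq hc
  choose u huG hu1 hu2 using fun k => UnitaryUnipotent.exists_regular (K := K) hK (hd k)
  have hconj : ∀ k, ∃ g : GL (Fin (d k)) K,
      (g : Matrix (Fin (d k)) (Fin (d k)) K) * Cfsg.jordanBlock (d k) K = u k * g := by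
    intro k
    haveI : Nonempty (Fin (d k)) := ⟨⟨0, hd k⟩⟩
    refine UnipDet.exists_conj _ _ (d k) ?_ ?_ (hu1 k) (by simpa using hu2 k)
    · rw [jordanBlock_sub_one, ← Matrix.transpose_pow, GLOrders.shiftMat_pow_eq_zero _ _ (hd k), Matrix.transpose_zero]
    · rw [jordanBlock_sub_one, Matrix.rank_transpose, UnipDet.shift_rank (hd k), Fintype.card_fin]
  choose g hg using hconj
  let φ : ((k : Fin t) → Matrix (Fin (d k)) (Fin (d k)) K) →+* Matrix ((k : Fin t) × Fin (d k)) ((k : Fin t) × Fin (d k)) K :=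
    Matrix.blockDiagonal'RingHom (fun k => Fin (d k)) K
  let G : GL ((k : Fin t) × Fin (d k)) K :=
    ⟨φ fun k => (g k : Matrix (Fin (d k)) (Fin (d k)) K), φ fun k => ((g k)⁻¹ : GL (Fin (d k)) K),
      by rw [← map_mul, ← map_one φ]; congr 1; funext k; exact Units.mul_inv _,
      by rw [← map_mul, ← map_one φ]; congr 1; funext k; exact Units.inv_mul _⟩
  let B : Matrix ((k : Fin t) × Fin (d k)) ((k : Fin t) × Fin (d k)) K :=
    φ fun k => (u k : Matrix (Fin (d k)) (Fin (d k)) K)
  have hGB : (G : Matrix _ _ K) * (Cfsg.jordanTypeMatrix d K - 1) = (B - 1) * (G : Matrix _ _ K) := by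
    have h1 : (G : Matrix _ _ K) * Cfsg.jordanTypeMatrix d K = B * (G : Matrix _ _ K) := by
      show φ (fun k => (g k : Matrix (Fin (d k)) (Fin (d k)) K)) * φ (fun k => Cfsg.jordanBlock (d k) K) =
        φ (fun k => (u k : Matrix (Fin (d k)) (Fin (d k)) K)) * φ (fun k => (g k : Matrix (Fin (d k)) (Fin (d k)) K))
      rw [← map_mul, ← map_mul]
      congr 1
      funext k
      exact hg k
    rw [Matrix.mul_sub, Matrix.sub_mul, h1, Matrix.mul_one, Matrix.one_mul]
  have hB : MType (B - 1) μ.parts := hμ ▸ (mtype_jordan d hd).conj G hGB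
  have hBt : (B.map (qHom hK))ᵀ * B = 1 := by
    show ((Matrix.blockDiagonal' fun k => (u k : Matrix (Fin (d k)) (Fin (d k)) K)).map (qHom hK))ᵀ *
      Matrix.blockDiagonal' (fun k => (u k : Matrix (Fin (d k)) (Fin (d k)) K)) = 1
    rw [Matrix.blockDiagonal'_map _ _ (map_zero _), Matrix.blockDiagonal'_transpose, ← Matrix.blockDiagonal'_mul,
      ← Matrix.blockDiagonal'_one]
    congr 1
    funext k
    exact (mem_GU_iff hK _).mp (huG k)
  have hM : tstar hK (Matrix.reindex e e B) * Matrix.reindex e e B = 1 := by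
    rw [tstar, Matrix.reindex_apply, ← Matrix.submatrix_map, Matrix.transpose_submatrix,
      Matrix.submatrix_mul_equiv, hBt, Matrix.submatrix_one_equiv]
  refine ⟨⟨Matrix.reindex e e B, tstar hK (Matrix.reindex e e B), mul_eq_one_comm.1 hM, hM⟩,
    (mem_GU_iff hK _).mpr hM, ?_⟩
  show MType (Matrix.reindex e e B - 1) μ.parts
  rw [reindex_sub_one]
  exact hB.reindex e

end Cfsg.Agent.Lib.Jordan
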